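import Cfsg.Agent.KFacts.RuDbl.Rel

/-!
# Perfect double covers of the Rudvalis group

`π : L → RuOrder.H` is a perfect double cover with kernel `{1, c}`.

* `goodA`: the elements of class 2A lift to involutions;
* `badB`: the elements of class 2B lift to elements of order 4;
* `comm_ne`: if `x`, `y`, `x y` are of class 2B, their lifts do not commute.
-/

set_option autoImplicit false
set_option maxRecDepth 100000
set_option exponentiation.threshold 5000

namespace Cfsg.Agent.KFacts.RuDbl.Main

open Cfsg.Agent.SporadicB Cfsg.Agent.Schreier Cfsg.Agent.Schreier.RuSyl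
open Cfsg.Agent.KFacts.PcTail Cfsg.Agent.KFacts.RuDbl.Data Cfsg.Agent.KFacts.RuDbl.Four Cfsg.Agent.KFacts.RuDbl.Rel
open Cfsg.Agent.KFacts.MulTwo Cfsg.Agent.KFacts.MulDef Cfsg.Agent.KFacts.MulLift
open scoped commutatorElement

universe u

section cover

variable {L : Type u} [Group L] {π : L →* RuOrder.H} {c : L}

/-! ### class 2A -/

theorem chkQ1 : eqw (ex [5] ++ ex [5]) (ex [13]) = true := by decide +kernel
theorem chkQ2 : eqw (ex [0, 9, 10] ++ ex [0, 9, 10]) (ex [13]) = true := by decide +kernel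
theorem chkQ3 : eqw (ex [5] ++ (ex [0, 9, 10] ++ ex [5])) (ex [0, 9, 10]) = true := by decide +kernel

/-- the elements of class 2A lift to involutions -/
theorem goodA (hd : Dbl π c) {x : L} (hx : IsConj (g 13) (π x)) : x * x = 1 := by
  have h1 := eqw_sound chkQ1
  have h2 := eqw_sound chkQ2
  have h3 := eqw_sound chkQ3
  rw [W_append] at h1 h2
  rw [W_append, W_append] at h3
  have h0 : ev (a hd) [13] * ev (a hd) [13] = 1 := by
    refine sq_of_quat hd (i := ev (a hd) [5]) (j := ev (a hd) [0, 9, 10]) (x := ev (a hd) [13]) ?_ ?_ ?_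
    · rw [map_mul, pi_ev, pi_ev, h1]
    · rw [map_mul, pi_ev, pi_ev, h2]
    · rw [map_mul, map_mul, map_inv, map_inv, pi_ev, pi_ev]
      rw [mul_inv_eq_iff_eq_mul, eq_inv_mul_iff_mul_eq, h3]
  refine sq_conj' hd (x := ev (a hd) [13]) (y := x) ?_ h0
  rw [pi_ev, W_ex, List.map_cons, List.map_nil, List.prod_cons, List.prod_nil, mul_one]
  exact hx

/-- an involution `z` of `L` commutes with `x` if `x z` and `x` are mapped to conjugate involutions with square one -/
theorem comm_of_sq {x z : L} (hz : z * z = 1) (hx : x * x = 1) (hxz : x * z * (x * z) = 1) : z * x = x * z := by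
  have h1 : x * z * (x * z) * z = z := by rw [hxz, one_mul]
  have h2 : x * (z * x) = z := by
    calc x * (z * x) = x * z * x * (z * z) := by rw [hz, mul_one, mul_assoc]
      _ = x * z * (x * z) * z := by simp only [mul_assoc]
      _ = z := h1
  calc z * x = x * x * (z * x) := by rw [hx, one_mul]
    _ = x * (x * (z * x)) := by simp only [mul_assoc]
    _ = x * z := by rw [h2]

theorem chkZ0 : eqw (gwd 5 ++ (gwd 0 ++ gwd 13)) (gwd 0 ++ gwd 5) = true := by decide +kernel
theorem chkZ1 : eqw (gwd 5 ++ (gwd 1 ++ gwd 13)) (gwd 1 ++ gwd 5) = true := by decide +kernel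
theorem chkZ2 : eqw (gwd 12 ++ (gwd 2 ++ gwd 13)) (gwd 2 ++ gwd 12) = true := by decide +kernel

theorem isConj_of_chk {i k : ℕ} (h : eqw (gwd k ++ (gwd i ++ gwd 13)) (gwd i ++ gwd k) = true) :
    IsConj (g i) (g i * g 13) := by
  have h1 := eqw_sound h
  rw [W_append, W_append, W_append] at h1
  apply IsConj.symm
  rw [isConj_iff]
  exact ⟨g k, by
    show W (gwd k) * (W (gwd i) * W (gwd 13)) * (W (gwd k))⁻¹ = W (gwd i)
    rw [h1, mul_inv_cancel_right]⟩

theorem sq_g {i : ℕ} (hi : i < 3) : g i * g i = 1 := by rw [g_eq_L i hi, L_sq i hi]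

/-- If the elements of class 2B lift to involutions, `a 13` is central in the preimage of the Sylow subgroup. -/
theorem comm_z (hd : Dbl π c) (hB : ∀ y : L, IsConj (g 0) (π y) → y * y = 1) {i : ℕ} (hi : i < 3) :
    a hd 13 * a hd i = a hd i * a hd 13 := by
  have hz : a hd 13 * a hd 13 = 1 := goodA hd (by rw [pi_a])
  have key : ∀ x : L, π x = g i → x * x = 1 → IsConj (g i) (g i * g 13) → a hd 13 * x = x * a hd 13 := by
    intro x hx hxx hc
    refine comm_of_sq hz hxx ?_
    refine sq_conj' hd (x := x) ?_ hxx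
    rw [map_mul, hx, pi_a]
    exact hc
  rcases (by omega : i = 0 ∨ i = 1 ∨ i = 2) with rfl | rfl | rfl
  · exact key _ (pi_a hd 0) (hB _ (by rw [pi_a])) (isConj_of_chk chkZ0)
  · refine key _ (pi_a hd 1) (goodA hd ?_) (isConj_of_chk chkZ1)
    have := conjA' [1] (by decide)
    rw [W_ex, List.map_cons, List.map_nil, List.prod_cons, List.prod_nil, mul_one] at this
    rw [pi_a]; exact this
  · refine key _ (pi_a hd 2) (goodA hd ?_) (isConj_of_chk chkZ2)
    have := conjA' [2] (by decide)
    rw [W_ex, List.map_cons, List.map_nil, List.prod_cons, List.prod_nil, mul_one] at this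
    rw [pi_a]; exact this

theorem letters_lt : ∀ i < 14, ((gwd i).all fun l => Nat.blt l 3) = true := by decide

theorem comm_z_ev (hd : Dbl π c) (hB : ∀ y : L, IsConj (g 0) (π y) → y * y = 1) (w : List ℕ) (hw : ∀ i ∈ w, i < 14) :
    a hd 13 * ev (a hd) w = ev (a hd) w * a hd 13 := by
  have h1 : ∀ x ∈ (Set.centralizer {a hd 13} : Set L), a hd 13 * x = x * a hd 13 := fun x hx => hx _ rfl
  have key : ev (a hd) w ∈ Subgroup.centralizer ({a hd 13} : Set L) := by
    apply list_prod_mem
    intro x hx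
    obtain ⟨i, hi, rfl⟩ := List.mem_map.1 hx
    apply list_prod_mem
    intro y hy
    obtain ⟨l, hl, rfl⟩ := List.mem_map.1 hy
    have h3 : l < 3 := Nat.blt_eq.mp (List.all_eq_true.1 (letters_lt i (hw i hi)) l hl)
    rw [← a_eq_G hd h3]
    rw [Subgroup.mem_centralizer_singleton_iff]
    exact (comm_z hd hB h3).symm
  exact (Subgroup.mem_centralizer_singleton_iff.1 key).symm

/-- the elements of class 2B do not lift to involutions -/
theorem false_of_good [Finite L] (hd : Dbl π c) (hB : ∀ y : L, IsConj (g 0) (π y) → y * y = 1) : False := by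
  refine false_of_zero hd (tails_zero hd ?_ ?_)
  · intro q hq
    have h1 : ∀ q ∈ eS, q.1 ∈ [[1], [2], [0, 4, 5, 8], [3, 7, 8], [4, 6, 7, 8], [5, 6, 7, 8], [9], [8, 9], [10], [11],
        [12], [13]] ∨ q.1 ∈ [[0], [0, 4, 5, 6, 7], [4, 5, 6, 8]] := by decide
    rcases h1 q hq with h2 | h2
    · apply goodA hd
      rw [pi_ev]
      exact conjA' _ h2
    · apply hB
      rw [pi_ev]
      exact conjB' _ h2
  · obtain ⟨h, h1, h2⟩ := pair
    obtain ⟨y, rfl⟩ := hd.surj h
    -- move the pair by `y`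
    have e1 : π (y * ev (a hd) [9] * y⁻¹) = π (a hd 13) := by
      rw [map_mul, map_mul, map_inv, pi_ev, h1, pi_a, W_ex, List.map_cons, List.map_nil, List.prod_cons,
        List.prod_nil, mul_one, mul_inv_cancel_right]
    have e2 : π (y * ev (a hd) [0, 3, 4, 5] * y⁻¹) = π (ev (a hd) eC') := by
      rw [map_mul, map_mul, map_inv, pi_ev, h2, pi_ev, mul_inv_cancel_right]
    have e3 : a hd 13 * ev (a hd) eC' = ev (a hd) eC' * a hd 13 := comm_z_ev hd hB _ (by decide)
    have hcen := hd.cen
    have e4 : y * ev (a hd) [9] * y⁻¹ * (y * ev (a hd) [0, 3, 4, 5] * y⁻¹) =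
        y * ev (a hd) [0, 3, 4, 5] * y⁻¹ * (y * ev (a hd) [9] * y⁻¹) := by
      generalize y * ev (a hd) [9] * y⁻¹ = p at *
      generalize y * ev (a hd) [0, 3, 4, 5] * y⁻¹ = q at *
      have key : ∀ u v : L, u * v = v * u → u * c * v = v * (u * c) ∧ u * (v * c) = v * c * u := by
        intro u v huv
        constructor
        · calc u * c * v = u * (c * v) := by rw [mul_assoc]
            _ = u * v * c := by rw [hcen, mul_assoc]
            _ = v * (u * c) := by rw [huv, mul_assoc]
        · calc u * (v * c) = v * u * c := by rw [← mul_assoc, huv]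
            _ = v * (c * u) := by rw [mul_assoc, hcen]
            _ = v * c * u := by rw [mul_assoc]
      rcases eq_or hd e1 with rfl | rfl <;> rcases eq_or hd e2 with rfl | rfl
      · exact e3
      · exact (key _ _ e3).2
      · exact (key _ _ e3).1
      · exact (key _ _ ((key _ _ e3).1)).2
    have e5 : y * (ev (a hd) [9] * ev (a hd) [0, 3, 4, 5]) * y⁻¹ = y * (ev (a hd) [0, 3, 4, 5] * ev (a hd) [9]) * y⁻¹ := by
      calc y * (ev (a hd) [9] * ev (a hd) [0, 3, 4, 5]) * y⁻¹
          = y * ev (a hd) [9] * y⁻¹ * (y * ev (a hd) [0, 3, 4, 5] * y⁻¹) := by group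
        _ = _ := e4
        _ = _ := by group
    exact mul_left_cancel (mul_right_cancel e5)

/-- the elements of class 2B lift to elements of order 4 -/
theorem badB [Finite L] (hd : Dbl π c) {x : L} (hx : IsConj (g 0) (π x)) : x * x = c := by
  have h0 : π (x * x) = 1 := by
    rw [map_mul]
    obtain ⟨k, hk⟩ := isConj_iff.1 hx
    rw [← hk]
    have := sq_g (i := 0) (by norm_num)
    calc k * g 0 * k⁻¹ * (k * g 0 * k⁻¹) = k * (g 0 * g 0) * k⁻¹ := by group
      _ = 1 := by rw [this]; group
  rcases (hd.ker _).1 h0 with h1 | h1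
  · exact absurd (false_of_good hd fun y hy => sq_conj' hd (hx.symm.trans hy) h1) (fun h => h)
  · exact h1

/-- the lifts of a four-group of class 2B do not commute -/
theorem comm_ne [Finite L] (hd : Dbl π c) {x y : L} (hx : IsConj (g 0) (π x)) (hy : IsConj (g 0) (π y))
    (hxy : IsConj (g 0) (π (x * y))) : ⁅x, y⁆ = c := by
  have h1 := badB hd hx
  have h2 := badB hd hy
  have h3 := badB hd hxy
  have h4 : x⁻¹ = c * x := by
    rw [inv_eq_iff_mul_eq_one, ← mul_assoc, ← hd.cen, mul_assoc, h1, hd.sq]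
  have h5 : y⁻¹ = c * y := by
    rw [inv_eq_iff_mul_eq_one, ← mul_assoc, ← hd.cen, mul_assoc, h2, hd.sq]
  rw [commutatorElement_def, h4, h5]
  calc x * y * (c * x) * (c * y) = x * y * x * (c * (c * y)) := by rw [hd.cen x]; simp only [mul_assoc]
    _ = x * y * (x * y) * (c * c) := by rw [← mul_assoc c c y, hd.sq]; simp only [one_mul, mul_one, mul_assoc]
    _ = c := by rw [h3, hd.sq, mul_one]

end cover

end Cfsg.Agent.KFacts.RuDbl.Main
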