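import Cfsg.Agent.KFacts.RuDbl.Main
import Cfsg.Agent.KFacts.MulBaer
import Cfsg.Agent.RuLat.Main

/-!
# The Rudvalis group has at most one perfect double cover

`oneCover : OneCover RuOrder.H`, `oneCover_spor : OneCover Cfsg.Spor.Ru`; hence (`OneCover.not_four_dvd`) the order of a
central subgroup `Z` of a perfect group `K` with `K / Z` the Rudvalis group is not divisible by 4.
-/

set_option autoImplicit false
set_option maxRecDepth 100000
set_option exponentiation.threshold 5000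

namespace Cfsg.Agent.KFacts.RuDbl.One

open Cfsg.Agent.SporadicB Cfsg.Agent.Schreier Cfsg.Agent.Schreier.RuSyl
open Cfsg.Agent.KFacts.RuDbl.Four Cfsg.Agent.KFacts.RuDbl.Rel Cfsg.Agent.KFacts.RuDbl.Main
open Cfsg.Agent.KFacts.MulTwo Cfsg.Agent.KFacts.MulDef Cfsg.Agent.KFacts.MulLift Cfsg.Agent.KFacts.MulBound
open scoped commutatorElement

universe u

def w1 : List ℕ := [0, 2, 3, 1, 0, 2, 0, 2, 0, 1, 0, 2, 1, 2, 1, 2, 1, 2, 1, 3, 2, 0, 2, 3, 1, 0, 2, 0, 2, 0, 1, 0, 2,
  1, 2, 1, 2, 1, 2, 1, 3, 2, 0, 2, 3, 1, 0, 2, 0, 2, 0, 1, 0, 2, 1, 2, 1, 2, 1, 2]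
def w2 : List ℕ := [0, 1, 2, 0, 2, 3, 2, 0, 2, 0, 1, 0, 2, 1, 2, 1, 2, 1, 2, 3, 2, 0, 2, 1, 0, 1, 2, 0, 2, 3, 2, 0, 2,
  0, 1, 0, 2, 1, 2, 1, 2, 1, 2, 3, 2, 0, 2, 1, 0, 1, 2, 0, 2, 3, 2, 0, 2, 0, 1, 0, 2, 1, 2, 1, 2, 1, 2]

theorem chk1 : eqw4 (w1 ++ ex [4, 5, 10]) (gwd 0 ++ w1) = true := by decide +kernel
theorem chk2 : eqw4 (w2 ++ ex [0, 4, 5, 10]) (gwd 0 ++ w2) = true := by decide +kernel

theorem conj1 : IsConj (g 0) (W (ex [4, 5, 10])) := isConj_of chk1 (by decide) (by decide)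
theorem conj2 : IsConj (g 0) (W (ex [0, 4, 5, 10])) := isConj_of chk2 (by decide) (by decide)

theorem uniq {L M : Type u} [Group L] [Group M] [Finite L] [Finite M] {π : L →* RuOrder.H} {ρ : M →* RuOrder.H}
    {c : L} {d : M} (hπ : Dbl π c) (hρ : Dbl ρ d) : ∃ θ : L ≃* M, ∀ x, ρ (θ x) = π x := by
  rcases lift_or_dbl hπ.perf π hρ with ⟨s, hs⟩ | h
  · -- the lift is an isomorphism
    have hc : s c ≠ 1 := by
      obtain ⟨x, hx⟩ := hπ.surj (g 0)
      have h1 : x * x = c := badB hπ (by rw [hx])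
      have h2 : s x * s x = d := badB hρ (by rw [hs, hx])
      rw [← h1, map_mul, h2]
      exact hρ.ne
    have hinj : Function.Injective s := by
      rw [injective_iff_map_eq_one]
      intro x hx
      have h1 : π x = 1 := by rw [← hs, hx, map_one]
      rcases (hπ.ker x).1 h1 with h2 | h2
      · exact h2
      · exact absurd (h2 ▸ hx) hc
    have hsurj : Function.Surjective s := by
      intro y
      obtain ⟨x, hx⟩ := hπ.surj (ρ y)
      rcases eq_or hρ (x := s x) (y := y) (by rw [hs, hx]) with h1 | h1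
      · exact ⟨x, h1⟩
      · have h2 : s c = d := by
          have h3 : ρ (s c) = 1 := by rw [hs, pi_c hπ]
          rcases (hρ.ker _).1 h3 with h4 | h4
          · exact absurd h4 hc
          · exact h4
        exact ⟨x * c, by rw [map_mul, h1, h2, mul_assoc, hρ.sq, mul_one]⟩
    exact ⟨MulEquiv.ofBijective s ⟨hinj, hsurj⟩, fun x => hs x⟩
  · -- a perfect group with a central four-group
    exfalso
    let K := P π ρ
    let f : K →* RuOrder.H := π.comp (pr π ρ)
    have hf : Function.Surjective f := hπ.surj.comp h.surj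
    have hfa : ∀ p : K, f p = π p.1.1 := fun _ => rfl
    have hmem : ∀ p : K, π p.1.1 = ρ p.1.2 := fun p => p.2
    let y : K := ⟨(c, d), by rw [mem_P, pi_c hπ, pi_c hρ]⟩
    let z : K := ⟨(c, 1), by rw [mem_P, pi_c hπ, map_one]⟩
    have h4 : ∀ x : K, f x = 1 → x = 1 ∨ x = y ∨ x = z ∨ x = z * y := by
      intro x hx
      have h1 := (hπ.ker x.1.1).1 hx
      have h2 := (hρ.ker x.1.2).1 (by rw [← hmem]; exact hx)
      rcases h1 with h1 | h1 <;> rcases h2 with h2 | h2
      · left; exact Subtype.ext (Prod.ext h1 h2)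
      · right; right; right
        refine Subtype.ext (Prod.ext ?_ ?_)
        · show x.1.1 = c * c
          rw [h1, hπ.sq]
        · show x.1.2 = 1 * d
          rw [h2, one_mul]
      · right; right; left; exact Subtype.ext (Prod.ext h1 h2)
      · right; left; exact Subtype.ext (Prod.ext h1 h2)
    have hcen : ∀ x : K, f x = 1 → ∀ k, x * k = k * x := by
      intro x hx k
      have h1 := (hπ.ker x.1.1).1 hx
      have h2 := (hρ.ker x.1.2).1 (by rw [← hmem]; exact hx)
      refine Subtype.ext (Prod.ext ?_ ?_)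
      · show x.1.1 * k.1.1 = k.1.1 * x.1.1
        rcases h1 with h1 | h1
        · rw [h1, one_mul, mul_one]
        · rw [h1, hπ.cen]
      · show x.1.2 * k.1.2 = k.1.2 * x.1.2
        rcases h2 with h2 | h2
        · rw [h2, one_mul, mul_one]
        · rw [h2, hρ.cen]
    have hyy : y * y = 1 := Subtype.ext (Prod.ext hπ.sq hρ.sq)
    have hzz : z * z = 1 := Subtype.ext (Prod.ext hπ.sq (mul_one 1))
    have hy1 : f y = 1 := by
      show π c = 1
      exact pi_c hπ
    have hz1 : f z = 1 := by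
      show π c = 1
      exact pi_c hπ
    have hz0 : z ≠ 1 := fun h0 => hπ.ne (congrArg (fun p : K => p.1.1) h0)
    have hzy : z ≠ y := fun h0 => hρ.ne (congrArg (fun p : K => p.1.2) h0).symm
    obtain ⟨N, hN, hle, hNm, hd⟩ := dbl_quot h.perf hf hcen hy1 hz1 hyy ⟨hz0, hzy⟩ (Or.inl hzz) h4
    -- a lift of an element of class 2B
    obtain ⟨u, hu⟩ := hπ.surj (g 0)
    obtain ⟨v, hv⟩ := hρ.surj (g 0)
    let p : K := ⟨(u, v), by rw [mem_P, hu, hv]⟩
    have hpp : p * p = y := Subtype.ext (Prod.ext (badB hπ (by rw [hu])) (badB hρ (by rw [hv])))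
    have h5 : QuotientGroup.mk' N p * QuotientGroup.mk' N p = QuotientGroup.mk' N z := badB hd (by
      show IsConj (g 0) (f p)
      rw [hfa, hu])
    have h6 : QuotientGroup.mk' N p * QuotientGroup.mk' N p = 1 := by
      rw [← map_mul, hpp]
      exact (QuotientGroup.eq_one_iff y).2 ((hNm y).2 (Or.inr rfl))
    exact hd.ne (h5.symm.trans h6)

theorem oneCover : OneCover RuOrder.H where
  uniq _ _ _ _ _ _ _ _ _ _ hπ hρ := uniq hπ hρ
  real L _ _ π c hd := by
    obtain ⟨x, hx⟩ := hd.surj (g 0)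
    obtain ⟨w, hw⟩ := hd.surj (W (ex [4, 5, 10]))
    have h1 : g 0 * W (ex [4, 5, 10]) = W (ex [0, 4, 5, 10]) := by
      rw [← one_mul (W (ex [4, 5, 10])), ← W_nil, ← W_append, show g 0 = W (gwd 0) from rfl, ← W_append]
      rfl
    refine ⟨x, w, ?_, comm_ne hd (by rw [hx]) (by rw [hw]; exact conj1) (by rw [map_mul, hx, hw, h1]; exact conj2)⟩
    rw [map_mul, hx]
    exact sq_g (by norm_num)

theorem oneCover_spor : OneCover Cfsg.Spor.Ru :=
  Cfsg.Agent.KFacts.MulBaer.OneCover.congr oneCover Cfsg.Agent.RuLat.Main.equiv.symm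

end Cfsg.Agent.KFacts.RuDbl.One
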