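import Cfsg.Agent.KFacts.RuDbl.One
import Cfsg.Agent.OddHalf.Table.OutRu
import Cfsg.Agent.OddHalf.Table.RuInv
import Cfsg.Agent.OddHalf.Table.RuInvCent
import Cfsg.Agent.OddHalf.D4.EvenCyc
import Cfsg.Agent.OddHalf.D9.J2.Row

/-!
# The facts (P1), (P2) for `2.Ru`

For a finite perfect group `L` with centre of order 2 and `L / Z(L)` the Rudvalis group: every automorphism of `L` is
inner, `PairFree L` and `SqDiff L`.
-/

set_option autoImplicit false
set_option maxRecDepth 100000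
set_option exponentiation.threshold 5000

namespace Cfsg.Agent.KFacts.RuDbl.Pairs

open Subgroup Cfsg.Agent.SporadicB Cfsg.Agent.Schreier Cfsg.Agent.Schreier.RuSyl
open Cfsg.Agent.KFacts.RuDbl.Four Cfsg.Agent.KFacts.RuDbl.Rel Cfsg.Agent.KFacts.RuDbl.Main
open Cfsg.Agent.KFacts.MulTwo Cfsg.Agent.KFacts.MulDef Cfsg.Agent.KFacts.MulLift
open Cfsg.Agent.OddHalf.D9.J2.Facts (exists_bar eq_one_of_bar inner_of_bar)
open Cfsg.Agent.OddHalf.D4.EvenCyc (PairFree SqDiff)
open scoped commutatorElement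

universe u

variable {L : Type u} [Group L] {π : L →* RuOrder.H} {c : L}

theorem map_c (hd : Dbl π c) (hZ : ∀ x ∈ center L, x = 1 ∨ x = c) (α : MulAut L) : α c = c := by
  have h1 : α c ∈ center L := by
    rw [mem_center_iff]
    intro x
    obtain ⟨y, rfl⟩ := α.surjective x
    rw [← map_mul, ← map_mul, hd.cen]
  rcases hZ _ h1 with h | h
  · exact absurd ((map_eq_one_iff α α.injective).1 h) hd.ne
  · exact h

theorem bar_invol (hd : Dbl π c) (hZ : ∀ x ∈ center L, x = 1 ∨ x = c) {k : L}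
    (h : MulAut.conj k * MulAut.conj k = 1) (h1 : MulAut.conj k ≠ 1) : π k * π k = 1 ∧ π k ≠ 1 := by
  constructor
  · rw [← map_mul]
    have h2 : k * k ∈ center L := by
      rw [mem_center_iff]
      intro x
      have h3 := congrArg (fun γ : MulAut L => γ x) h
      have h4 : k * (k * x * k⁻¹) * k⁻¹ = x := h3
      calc x * (k * k) = (k * (k * x * k⁻¹) * k⁻¹) * (k * k) := by rw [h4]
        _ = _ := by group
    exact (hd.ker _).2 (hZ _ h2)
  · intro h2
    apply h1
    rcases (hd.ker k).1 h2 with h3 | h3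
    · rw [h3, map_one]
    · ext x
      show k * x * k⁻¹ = x
      rw [h3, hd.cen]; group

/-- the automorphisms of `L` are inner -/
theorem inner (hd : Dbl π c) (hZ : ∀ x ∈ center L, x = 1 ∨ x = c) (α : MulAut L) : ∃ k : L, α = MulAut.conj k := by
  obtain ⟨δ, hδ⟩ := exists_bar hd α (map_c hd hZ α)
  obtain ⟨g, hg⟩ := Cfsg.Agent.OddHalf.Table.OutRu.inner δ
  obtain ⟨k, rfl⟩ := hd.surj g
  refine ⟨k, inner_of_bar hd α k fun x => ?_⟩
  rw [← hδ, hg]; rfl

theorem pi_comm (hd : Dbl π c) {k l : L} (h : ∀ x, k * x = x * k → l * x = x * l) (y : RuOrder.H)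
    (hy : y * π k = π k * y) : π l * (y * y) = (y * y) * π l := by
  obtain ⟨x, rfl⟩ := hd.surj y
  have h1 : k * (x * x) = x * x * k := by
    rcases eq_or hd (x := x * k) (y := k * x) (by rw [map_mul, map_mul, hy]) with h1 | h1
    · rw [← mul_assoc, ← h1, mul_assoc, ← h1, mul_assoc]
    · calc k * (x * x) = k * x * x := by rw [mul_assoc]
        _ = k * x * x * (c * c) := by rw [hd.sq, mul_one]
        _ = (k * x * c) * x * c := by rw [mul_assoc (k * x) c x, hd.cen x]; simp only [mul_assoc]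
        _ = x * k * x * c := by rw [← h1]
        _ = x * (k * x * c) := by simp only [mul_assoc]
        _ = x * x * k := by rw [← h1, mul_assoc]
  rw [← map_mul, ← map_mul, h _ h1, map_mul]

/-- an involution commuting with the centraliser of `k` -/
theorem cent_of [Finite L] (hd : Dbl π c) {k l : L} (hk2 : π k * π k = 1) (hk1 : π k ≠ 1)
    (h : ∀ x, k * x = x * k → l * x = x * l) : π l = 1 ∨ π l = π k := by
  have hconj : ∀ g : L, (∀ x, (g⁻¹ * k * g) * x = x * (g⁻¹ * k * g) → (g⁻¹ * l * g) * x = x * (g⁻¹ * l * g)) := by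
    intro g x hx
    have h1 := h (g * x * g⁻¹) (by
      calc k * (g * x * g⁻¹) = g * ((g⁻¹ * k * g) * x) * g⁻¹ := by group
        _ = g * (x * (g⁻¹ * k * g)) * g⁻¹ := by rw [hx]
        _ = _ := by group)
    calc (g⁻¹ * l * g) * x = g⁻¹ * (l * (g * x * g⁻¹)) * g := by group
      _ = g⁻¹ * ((g * x * g⁻¹) * l) * g := by rw [h1]
      _ = _ := by group
  have hback : ∀ g : L, (π (g⁻¹ * l * g) = 1 ∨ π (g⁻¹ * l * g) = π (g⁻¹ * k * g)) → π l = 1 ∨ π l = π k := by
    intro g hg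
    rcases hg with hg | hg
    · left
      rw [map_mul, map_mul, map_inv] at hg
      calc π l = π g * ((π g)⁻¹ * π l * π g) * (π g)⁻¹ := by group
        _ = 1 := by rw [hg]; group
    · right
      rw [map_mul, map_mul, map_inv, map_mul, map_mul, map_inv] at hg
      exact mul_left_cancel (mul_right_cancel hg)
  rcases Cfsg.Agent.OddHalf.Table.RuInv.isConj_or hk2 hk1 with h1 | h1
  · obtain ⟨g, hg⟩ := isConj_iff.1 h1
    obtain ⟨g, rfl⟩ := hd.surj g
    have hk' : π (g⁻¹ * k * g) = RuSyl.g 13 := by rw [map_mul, map_mul, map_inv, ← hg]; group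
    apply hback g
    rw [hk']
    apply Cfsg.Agent.OddHalf.Table.RuInvCent.cent_sq_a
    intro x hx
    exact pi_comm hd (hconj g) x (by rw [hk', hx])
  · obtain ⟨g, hg⟩ := isConj_iff.1 h1
    obtain ⟨g, rfl⟩ := hd.surj g
    have hk' : π (g⁻¹ * k * g) = RuSyl.g 0 := by rw [map_mul, map_mul, map_inv, ← hg]; group
    apply hback g
    have h2 := hconj g
    generalize g⁻¹ * k * g = k' at hk' h2
    generalize g⁻¹ * l * g = l' at h2
    rw [hk']
    obtain ⟨v, v1, v2, v3, v4⟩ := Cfsg.Agent.OddHalf.Table.RuInvCent.exists_four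
    have hcomm : l' * k' = k' * l' := h2 k' rfl
    have h0 : IsConj (RuSyl.g 0) (π k') := by rw [hk']
    have hgg := sq_g (i := 0) (by norm_num)
    have hcc : ⁅k', l'⁆ = 1 := commutatorElement_eq_one_iff_mul_comm.2 hcomm.symm
    rcases v4 (π l') (fun x hx => pi_comm hd h2 x (by rw [hk', hx])) with h3 | h3 | h3 | h3
    · exact Or.inl h3
    · exact Or.inr h3
    · exact absurd ((comm_ne hd h0 (by rw [h3]; exact v2) (by rw [map_mul, hk', h3]; exact v3)).symm.trans hcc) hd.ne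
    · exact absurd ((comm_ne hd h0 (by rw [h3]; exact v3) (by
        rw [map_mul, hk', h3, ← mul_assoc, hgg, one_mul]; exact v2)).symm.trans hcc) hd.ne

/-- **(P1)** -/
theorem pairFree [Finite L] (hd : Dbl π c) (hZ : ∀ x ∈ center L, x = 1 ∨ x = c) : PairFree L := by
  intro α β hαα hββ hαβ hα1 hβ1 hne h1 h2
  obtain ⟨k, rfl⟩ := inner hd hZ α
  obtain ⟨l, rfl⟩ := inner hd hZ β
  obtain ⟨h3, h4⟩ := bar_invol hd hZ hαα hα1
  rcases cent_of hd h3 h4 (fun x hx => by
      have h5 : l * x * l⁻¹ = x := h1 x (by show k * x * k⁻¹ = x; rw [hx]; group)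
      exact mul_inv_eq_iff_eq_mul.1 h5) with h | h
  · exact (bar_invol hd hZ hββ hβ1).2 h
  · apply hne
    rw [inner_of_bar hd (MulAut.conj k) l fun x => by
      show π (k * x * k⁻¹) = _
      rw [map_mul, map_mul, map_inv, h]]

theorem g13_ne : RuSyl.g 13 ≠ 1 := fun h =>
  Cfsg.Agent.OddHalf.Table.RuInv.g_notMem (k := 13) (by norm_num) (h ▸ one_mem _)

theorem diff_eq {i k : ℕ} (h : eqw (gwd k ++ (gwd i ++ gwd 13)) (gwd i ++ gwd k) = true) :
    (g i * (g k)⁻¹ * (g i)⁻¹) * g k = g i * (g 13)⁻¹ * (g i)⁻¹ := by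
  have h1 := eqw_sound h
  rw [W_append, W_append, W_append] at h1
  have h2 : g k * (g i * g 13) = g i * g k := h1
  have h3 : g i * g 13 = (g k)⁻¹ * (g i * g k) := by rw [← h2]; group
  calc (g i * (g k)⁻¹ * (g i)⁻¹) * g k = g i * ((g k)⁻¹ * (g i * g k))⁻¹ := by group
    _ = g i * (g i * g 13)⁻¹ := by rw [h3]
    _ = _ := by group

/-- **(P2)** -/
theorem sqDiff [Finite L] (hd : Dbl π c) (hZ : ∀ x ∈ center L, x = 1 ∨ x = c) : SqDiff L := by
  intro α hαα hα1
  obtain ⟨k, rfl⟩ := inner hd hZ α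
  obtain ⟨h3, h4⟩ := bar_invol hd hZ hαα hα1
  have key : ∀ y : L, IsConj (g 13) (π y) → y ∉ center L ∧ y * y = 1 := by
    intro y hy
    refine ⟨fun h => ?_, goodA hd hy⟩
    have h1 : π y = 1 := (hd.ker y).2 (hZ y h)
    rw [h1] at hy
    exact g13_ne (isConj_one_left.1 hy)
  have hinv : (g 13)⁻¹ = g 13 :=
    inv_eq_of_mul_eq_one_left Cfsg.Agent.OddHalf.Table.RuInvCent.za_sq
  have main : ∀ i j : ℕ, eqw (gwd j ++ (gwd i ++ gwd 13)) (gwd i ++ gwd j) = true → IsConj (g i) (π k) →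
      ∃ x : L, (MulAut.conj k x)⁻¹ * x ∉ center L ∧ ((MulAut.conj k x)⁻¹ * x) * ((MulAut.conj k x)⁻¹ * x) = 1 := by
    intro i j h hc
    obtain ⟨m, hm⟩ := isConj_iff.1 hc
    obtain ⟨m, rfl⟩ := hd.surj m
    obtain ⟨z, hz⟩ := hd.surj (g j)
    refine ⟨m * z * m⁻¹, key _ ?_⟩
    have h5 : π ((MulAut.conj k (m * z * m⁻¹))⁻¹ * (m * z * m⁻¹)) = π m * (g i * (g 13)⁻¹ * (g i)⁻¹) * (π m)⁻¹ := by
      rw [← diff_eq h]
      show π ((k * (m * z * m⁻¹) * k⁻¹)⁻¹ * (m * z * m⁻¹)) = _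
      simp only [map_mul, map_inv]
      rw [← hm, hz]
      group
    rw [h5, hinv]
    exact isConj_iff.2 ⟨π m * g i, by group⟩
  rcases Cfsg.Agent.OddHalf.Table.RuInv.isConj_or h3 h4 with h | h
  · refine main 2 12 chkZ2 (IsConj.trans ?_ h)
    have := conjA' [2] (by decide)
    rw [W_ex, List.map_cons, List.map_nil, List.prod_cons, List.prod_nil, mul_one] at this
    exact this.symm
  · exact main 0 5 chkZ0 h

/-- **(P1) and (P2) for `2.Ru`.** -/
theorem main {L : Type u} [Group L] [Finite L] (hp : commutator L = ⊤) (h2 : Nat.card ↥(center L) = 2)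
    (e : L ⧸ center L ≃* Cfsg.Spor.Ru) : PairFree L ∧ SqDiff L := by
  obtain ⟨c, hc1, -⟩ := (Nat.card_eq_two_iff' (1 : center L)).1 h2
  have hc1' : (c : L) ≠ 1 := fun h => hc1 (Subtype.ext h)
  have hZ : ∀ x ∈ center L, x = 1 ∨ x = (c : L) := fun x hx =>
    (Cfsg.Agent.OddHalf.D9.J2.Row.mem_center_iff_of_card h2 c.2 hc1' x).1 hx
  let f : L ⧸ center L ≃* RuOrder.H := e.trans Cfsg.Agent.RuLat.Main.equiv
  have hd : Dbl (f.toMonoidHom.comp (QuotientGroup.mk' (center L))) (c : L) := by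
    refine ⟨⟨hc1', ?_, ?_, hp⟩, f.surjective.comp (QuotientGroup.mk'_surjective _), ?_⟩
    · rcases hZ _ (mul_mem c.2 c.2) with h | h
      · exact h
      · exact absurd (mul_eq_left.1 h) hc1'
    · intro x
      exact (mem_center_iff.1 c.2 x).symm
    · intro x
      constructor
      · intro hx
        have h3 : f (QuotientGroup.mk' (center L) x) = 1 := hx
        rw [map_eq_one_iff f f.injective] at h3
        exact hZ x ((QuotientGroup.eq_one_iff x).1 h3)
      · intro hx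
        have h3 : x ∈ center L := by
          rcases hx with rfl | rfl
          · exact one_mem _
          · exact c.2
        show f (QuotientGroup.mk' (center L) x) = 1
        rw [map_eq_one_iff f f.injective]
        exact (QuotientGroup.eq_one_iff x).2 h3
  exact ⟨pairFree hd hZ, sqDiff hd hZ⟩

end Cfsg.Agent.KFacts.RuDbl.Pairs
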