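import Cfsg.Agent.KFacts.RuDbl.Data
import Cfsg.Agent.KFacts.RuDbl.Four
import Cfsg.Agent.KFacts.MulLift

/-!
# Perfect double covers of the Rudvalis group

`π : L → RuOrder.H` is a perfect double cover with kernel `{1, c}`.

* `goodA`: the elements of class 2A lift to involutions;
* `badB`: the elements of class 2B lift to elements of order 4.
-/

set_option autoImplicit false
set_option maxRecDepth 100000
set_option exponentiation.threshold 5000

namespace Cfsg.Agent.KFacts.RuDbl.Rel

open Cfsg.Agent.SporadicB Cfsg.Agent.Schreier Cfsg.Agent.Schreier.RuSyl Cfsg.Agent.Schreier.PcSeries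
open Cfsg.Agent.KFacts.PcTail Cfsg.Agent.KFacts.RuDbl.Data Cfsg.Agent.KFacts.RuDbl.Four
open Cfsg.Agent.KFacts.MulTwo Cfsg.Agent.KFacts.MulDef Cfsg.Agent.KFacts.MulLift

universe u

/-! ### the relations of the Sylow subgroup -/

theorem chkSN : ∀ i < 14, eqw (gwd i ++ gwd i) (ex (sqN i)) = true := by decide +kernel

theorem chkCN : ∀ j < 14, ∀ i < j, eqw (gwd j ++ gwd i) (gwd i ++ (gwd j ++ ex (cmN i j))) = true := by decide +kernel

theorem geS : ∀ i < 14, ge (i + 1) (sqN i) = true := by decide +kernel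
theorem geC : ∀ j < 14, ∀ i < j, ge (j + 1) (cmN i j) = true := by decide +kernel

/-- the pair with number `k` -/
def prs : List (ℕ × ℕ) := (List.range 14).flatMap fun j => (List.range j).map fun i => (i, j)

def pr (k : ℕ) : ℕ × ℕ := prs.getD (k - 14) (0, 0)

theorem pr_tid : ∀ j < 14, ∀ i < j, pr (tid i j) = (i, j) ∧ 14 ≤ tid i j ∧ tid i j < 105 := by decide +kernel

section cover

variable {L : Type u} [Group L] {π : L →* RuOrder.H} {c : L}

/-- lifts of the letters -/
noncomputable def G (hd : Dbl π c) (l : ℕ) : L := (hd.surj (RuSyl.L l)).choose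

theorem pi_G (hd : Dbl π c) (l : ℕ) : π (G hd l) = RuSyl.L l := (hd.surj (RuSyl.L l)).choose_spec

/-- lifts of the generators -/
noncomputable def a (hd : Dbl π c) (i : ℕ) : L := ((gwd i).map (G hd)).prod

theorem pi_word (hd : Dbl π c) (w : List ℕ) : π ((w.map (G hd)).prod) = W w := by
  induction w with
  | nil => rw [List.map_nil, List.prod_nil, map_one, W_nil]
  | cons l w ih => rw [List.map_cons, List.prod_cons, map_mul, ih, pi_G, W_cons]

theorem pi_a (hd : Dbl π c) (i : ℕ) : π (a hd i) = g i := pi_word hd _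

theorem pi_ev (hd : Dbl π c) (w : List ℕ) : π (ev (a hd) w) = W (ex w) := by
  induction w with
  | nil => rw [ev_nil, map_one]; rfl
  | cons l w ih => rw [ev_cons, map_mul, ih, pi_a, ex, W_append]; rfl

theorem a_eq_G (hd : Dbl π c) {i : ℕ} (hi : i < 3) : a hd i = G hd i := by
  rcases (by omega : i = 0 ∨ i = 1 ∨ i = 2) with rfl | rfl | rfl <;> exact mul_one _

theorem ev_gwd (hd : Dbl π c) {w : List ℕ} (hw : ∀ l ∈ w, l < 3) : ev (a hd) w = (w.map (G hd)).prod := by
  unfold PcTail.ev
  congr 1
  exact List.map_congr_left fun l hl => a_eq_G hd (hw l hl)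

open Classical in
/-- tails of the squares -/
noncomputable def es (hd : Dbl π c) (i : ℕ) : ZMod 2 := if a hd i * a hd i = ev (a hd) (sqN i) then 0 else 1

open Classical in
/-- tails of the commutators -/
noncomputable def et (hd : Dbl π c) (i j : ℕ) : ZMod 2 :=
  if a hd j * a hd i = a hd i * a hd j * ev (a hd) (cmN i j) then 0 else 1

noncomputable def e (hd : Dbl π c) (k : ℕ) : ZMod 2 := if k < 14 then es hd k else et hd (pr k).1 (pr k).2

theorem eq_cp (hd : Dbl π c) {x y : L} (h : π x = π y) {z : ZMod 2} [Decidable (x = y)]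
    (hz : z = if x = y then 0 else 1) : x = y * cp c z := by
  have h1 : (1 : ZMod 2) ≠ 0 := by decide
  rcases eq_or hd h with h2 | h2
  · rw [hz, if_pos h2, cp_zero, mul_one]; exact h2
  · have h3 : x ≠ y := by
      intro h3
      rw [h3] at h2
      exact hd.ne (mul_eq_left.1 h2.symm)
    rw [hz, if_neg h3]
    unfold cp
    rw [if_neg h1]
    exact h2

theorem rel (hd : Dbl π c) : PcTail.Rel tab (a hd) c (e hd) where
  ne := hd.ne
  cc := hd.sq
  cen := hd.cen
  sq i hi := by
    have hi : i < 14 := hi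
    show a hd i * a hd i = ev (a hd) (sqN i) * cp c (lin 105 (e hd) (2 ^ i))
    classical
    refine eq_cp hd ?_ ?_
    · rw [map_mul, pi_a, pi_ev]
      have := eqw_sound (chkSN i hi)
      rw [W_append] at this
      exact this
    · rw [lin_two_pow _ (by omega : i < 105)]
      unfold e es
      rw [if_pos hi]
  cm i j hij hj := by
    have hj : j < 14 := hj
    show a hd j * a hd i = a hd i * a hd j * ev (a hd) (cmN i j) * cp c (lin 105 (e hd) (2 ^ (tid i j)))
    classical
    obtain ⟨h1, h2, h3⟩ := pr_tid j hj i hij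
    refine eq_cp hd ?_ ?_
    · rw [map_mul, map_mul, map_mul, pi_a, pi_a, pi_ev]
      have := eqw_sound (chkCN j hj i hij)
      rw [W_append, W_append, W_append, ← mul_assoc] at this
      exact this
    · rw [lin_two_pow _ h3]
      unfold e et
      rw [if_neg (by omega), h1]

/-- the tails vanish if certain involutions lift to involutions and `g 9` and `[0, 3, 4, 5]` have commuting lifts -/
theorem tails_zero (hd : Dbl π c) (hS : ∀ q ∈ eS, ev (a hd) q.1 * ev (a hd) q.1 = 1)
    (hC : ev (a hd) [9] * ev (a hd) [0, 3, 4, 5] = ev (a hd) [0, 3, 4, 5] * ev (a hd) [9]) :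
    ∀ k < 105, e hd k = 0 := by
  intro k hk
  refine eq_zero_of_comb (l := masks) (cs := cs) ?_ chkI hk
  have hr := rel hd
  intro E hE
  unfold masks at hE
  rw [List.mem_append, List.mem_append, List.mem_cons] at hE
  rcases hE with hE | hE | hE | hE
  · obtain ⟨q, hq, rfl⟩ := List.mem_map.1 hE
    refine chkE_sound hr (List.all_eq_true.1 chkD q hq) ?_
    have h1 : eD.all (fun q => cond ((q.2.1 == [q.2.1.getD 0 0]) && (q.1 == gwd (q.2.1.getD 0 0)))
      (q.1.all fun l => Nat.blt l 3) false) = true := by decide +kernel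
    obtain ⟨h2, h3⟩ := PcTail.and_of_cond (List.all_eq_true.1 h1 q hq)
    rw [Bool.and_eq_true, beq_iff_eq, beq_iff_eq] at h2
    rw [h2.1, ev_single, ev_gwd hd (fun l hl => Nat.blt_eq.mp (List.all_eq_true.1 h3 l hl))]
    have h4 := h2.2
    unfold a
    rw [← h4]
  · obtain ⟨q, hq, rfl⟩ := List.mem_map.1 hE
    refine chkE_sound hr (List.all_eq_true.1 chkS q hq) ?_
    rw [ev_append, hS q hq, ev_nil]
  · rw [hE]
    refine chkE_sound hr chkC ?_
    rw [ev_append, ev_append, hC]
  · obtain ⟨q, hq, rfl⟩ := List.mem_map.1 hE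
    exact chkK_sound hr (List.all_eq_true.1 chkKK q hq)

/-- the lifted generators satisfy the relations of the Sylow subgroup -/
theorem cert_of_zero (hd : Dbl π c) (h0 : ∀ k < 105, e hd k = 0) : Cert (a hd) 14 where
  sq i hi := by
    have h1 := (rel hd).sq i hi
    have h2 : lin tab.n (e hd) (Nat.pow 2 (tab.sid i)) = 0 := by
      have : lin 105 (e hd) (2 ^ i) = e hd i := lin_two_pow _ (by omega : i < 105)
      exact this.trans (h0 i (by omega))
    rw [h2, cp_zero, mul_one] at h1
    rw [h1]
    exact prod_mem_N (ge_spec (geS i hi))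
  comm i j hij hj := by
    have h1 := (rel hd).cm i j hij hj
    obtain ⟨_, _, h3⟩ := pr_tid j hj i hij
    have h2 : lin tab.n (e hd) (Nat.pow 2 (tab.tid i j)) = 0 := by
      have : lin 105 (e hd) (2 ^ (tid i j)) = e hd (tid i j) := lin_two_pow _ h3
      exact this.trans (h0 _ h3)
    rw [h2, cp_zero, mul_one] at h1
    refine ⟨(ev (a hd) (tab.cm i j))⁻¹, inv_mem (prod_mem_N (ge_spec (geC j hj i hij))), ?_⟩
    rw [h1, mul_inv_cancel_right]

/-- the double cover would split over the Sylow subgroup -/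
theorem false_of_zero [Finite L] (hd : Dbl π c) (h0 : ∀ k < 105, e hd k = 0) : False := by
  have hc := cert_of_zero hd h0
  have hcard : Nat.card (N (a hd) 14 0) ∣ 2 ^ 14 := hc.card_dvd 14 0 (by norm_num)
  -- the subgroup maps onto `T`
  have hmap : (N (a hd) 14 0).map π = T := by
    unfold T N
    rw [MonoidHom.map_closure]
    congr 1
    ext x
    constructor
    · rintro ⟨y, ⟨i, h1, h2, rfl⟩, rfl⟩
      exact ⟨i, h1, h2, pi_a hd i⟩
    · rintro ⟨i, h1, h2, rfl⟩
      exact ⟨a hd i, ⟨i, h1, h2, rfl⟩, pi_a hd i⟩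
  let P₁ : Subgroup L := N (a hd) 14 0
  let P : Subgroup L := T.comap π
  have hcP : c ∈ P := by
    show π c ∈ T
    rw [pi_c hd]; exact one_mem _
  have hidx : P.index = T.index := Subgroup.index_comap_of_surjective T hd.surj
  have hTi : T.index * 2 ^ 14 = 145926144000 := by
    rw [← RuSyl.card_T, Subgroup.index_mul_card, RuOrder.card_H]
  have hc1 : c ∉ P₁ := by
    intro hc1
    -- the restriction of `π` to `P₁` is a bijection
    let f : P₁ →* T := (π.comp P₁.subtype).codRestrict T fun x => by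
      rw [← hmap]; exact ⟨x, x.2, rfl⟩
    have hf : Function.Surjective f := by
      rintro ⟨y, hy⟩
      rw [← hmap] at hy
      obtain ⟨x, hx, rfl⟩ := hy
      exact ⟨⟨x, hx⟩, rfl⟩
    have h1 : Nat.card T ≤ Nat.card P₁ := Nat.card_le_card_of_surjective f hf
    have h2 : Nat.card P₁ ≤ 2 ^ 14 := Nat.le_of_dvd (by norm_num) hcard
    have h3 : Nat.card P₁ = Nat.card T := le_antisymm (by rw [RuSyl.card_T]; exact h2) h1
    have hb := (Nat.bijective_iff_surjective_and_card f).2 ⟨hf, h3⟩
    have h4 : f ⟨c, hc1⟩ = f 1 := by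
      apply Subtype.ext
      show π c = π 1
      rw [pi_c hd, map_one]
    exact hd.ne (congrArg Subtype.val (hb.1 h4))
  refine Ctr.false_of_compl hd.toCtr hcP ?_ hc1 ?_
  · rw [hidx]
    intro h2
    have h3 : 2 ^ 15 ∣ 145926144000 := by
      rw [← hTi, pow_succ, mul_comm (2 ^ 14) 2]
      exact Nat.mul_dvd_mul h2 dvd_rfl
    norm_num at h3
  · intro x hx
    have hx : π x ∈ T := hx
    rw [← hmap] at hx
    obtain ⟨y, hy, hxy⟩ := hx
    rcases eq_or hd hxy.symm with h1 | h1
    · left; rw [h1]; exact hy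
    · right
      have h2 : c * x = y := by
        rw [h1, ← hd.cen, ← mul_assoc, hd.sq, one_mul]
      rw [h2]; exact hy

end cover

end Cfsg.Agent.KFacts.RuDbl.Rel
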